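import Groth.Agent.Comod.UnipFil
import Groth.Agent.Comod.Coalg
import Groth.Agent.Comod.TrigUnip
import Groth.Agent.Comod.TwoSided
import Groth.Agent.HopfSub.Basic
import Groth.Prelude.Def_SGA3

/-!
# The irreducible component of the unit of a cocommutative Hopf algebra
-/

set_option autoImplicit false
set_option linter.style.haveILetI false

universe u

noncomputable section

open TensorProduct WithConv

namespace Groth.Agent.CocommUnip19

open HopfRep Groth.Agent.Comod

variable {k : Type u} [Field k] {A : Type u} [CommRing A] [HopfAlgebra k A]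

/-- The deviation of a contraction from the identity. -/
def dev (φ : A →ₗ[k] k) : A →ₗ[k] A := contract (V := A) φ - φ 1 • LinearMap.id

lemma dev_apply (φ : A →ₗ[k] k) (x : A) : dev φ x = contract φ x - φ 1 • x := rfl

lemma mem_fil_succ_dev {n : ℕ} {x : A} :
    x ∈ fil k A A (n + 1) ↔ ∀ φ : A →ₗ[k] k, dev φ x ∈ fil k A A n := mem_fil_succ_iff

lemma one_mem_fil_one : (1 : A) ∈ fil k A A 1 := by
  rw [mem_fil_succ, show HopfRep.Comod.coact (k := k) (A := A) (1 : A) = (1 : A) ⊗ₜ[k] (1 : A) from
    (Bialgebra.comul_one (R := k) (A := A)).trans Algebra.TensorProduct.one_def, sub_self]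
  exact zero_mem _

lemma mul_mem_range {U V W : Submodule k A} (h : ∀ u ∈ U, ∀ v ∈ V, u * v ∈ W) {x y : A ⊗[k] A}
    (hx : x ∈ LinearMap.range (U.subtype.rTensor A)) (hy : y ∈ LinearMap.range (V.subtype.rTensor A)) :
    x * y ∈ LinearMap.range (W.subtype.rTensor A) := by
  obtain ⟨s, rfl⟩ := hx
  obtain ⟨t, rfl⟩ := hy
  induction s using TensorProduct.induction_on with
  | zero => simp
  | add a b ha hb => rw [map_add, add_mul]; exact add_mem ha hb
  | tmul u a =>
    induction t using TensorProduct.induction_on with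
    | zero => simp
    | add a b ha hb => rw [map_add, mul_add]; exact add_mem ha hb
    | tmul v b =>
      refine ⟨⟨u.1 * v.1, h _ u.2 _ v.2⟩ ⊗ₜ[k] (a * b), ?_⟩
      simp [Algebra.TensorProduct.tmul_mul_tmul]

theorem mul_mem_fil : ∀ (N n m : ℕ), n + m = N → ∀ a ∈ fil k A A n, ∀ b ∈ fil k A A m,
    a * b ∈ fil k A A N := by
  intro N
  induction N with
  | zero =>
    intro n m h a ha b _
    obtain ⟨rfl, -⟩ : n = 0 ∧ m = 0 := by omega
    rw [show a = 0 from (Submodule.mem_bot k).1 ha, zero_mul]
    exact zero_mem _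
  | succ N ih =>
    intro n m h a ha b hb
    rcases n with _ | n
    · rw [show a = 0 from (Submodule.mem_bot k).1 ha, zero_mul]; exact zero_mem _
    rcases m with _ | m
    · rw [show b = 0 from (Submodule.mem_bot k).1 hb, mul_zero]; exact zero_mem _
    rw [mem_fil_succ]
    have e : HopfRep.Comod.coact (k := k) (A := A) (a * b) - (a * b) ⊗ₜ[k] (1 : A) =
        (HopfRep.Comod.coact (k := k) (A := A) a - a ⊗ₜ[k] (1 : A)) * HopfRep.Comod.coact (k := k) (A := A) b +
          (a ⊗ₜ[k] (1 : A)) * (HopfRep.Comod.coact (k := k) (A := A) b - b ⊗ₜ[k] (1 : A)) := by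
      rw [show HopfRep.Comod.coact (k := k) (A := A) (a * b) =
          HopfRep.Comod.coact (k := k) (A := A) a * HopfRep.Comod.coact (k := k) (A := A) b from
        Bialgebra.comul_mul (R := k) a b, sub_mul, mul_sub, Algebra.TensorProduct.tmul_mul_tmul, one_mul]
      abel
    rw [e]
    refine add_mem (mul_mem_range (fun u hu v hv => ih n (m + 1) (by omega) u hu v hv) ha (isSubcomod_fil _ b hb))
      (mul_mem_range (fun u hu v hv => ih (n + 1) m (by omega) u hu v hv) ?_ hb)
    exact ⟨(⟨a, ha⟩ : fil k A A (n + 1)) ⊗ₜ[k] (1 : A), rfl⟩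

variable [Coalgebra.IsCocomm k A]

omit [Coalgebra.IsCocomm k A] in
lemma contract_regular (φ : A →ₗ[k] k) (x : A) :
    contract φ x = slice φ (Coalgebra.comul (R := k) x) := rfl

lemma sliceL_comul (φ : A →ₗ[k] k) (x : A) :
    sliceL φ (Coalgebra.comul (R := k) x) = slice φ (Coalgebra.comul (R := k) x) := by
  conv_rhs => rw [← Coalgebra.comm_comul k x]
  induction Coalgebra.comul (R := k) x using TensorProduct.induction_on with
  | zero => simp
  | tmul a b => simp
  | add a b ha hb => simp only [map_add, ha, hb]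

lemma contract_comm (φ ψ : A →ₗ[k] k) (x : A) : contract φ (contract ψ x) = contract ψ (contract φ x) := by
  rw [contract_contract, mul_comm (toConv φ) (toConv ψ), ← contract_contract]

theorem antipode_mem_fil : ∀ (n : ℕ), ∀ x ∈ fil k A A n, HopfAlgebra.antipode k x ∈ fil k A A n
  | 0, x, hx => by rw [show x = 0 from (Submodule.mem_bot k).1 hx, map_zero]; exact zero_mem _
  | n + 1, x, hx => by
    refine mem_fil_succ_iff.2 fun φ => ?_
    have h := antipode_mem_fil n _ (mem_fil_succ_iff.1 hx (φ ∘ₗ HopfAlgebra.antipode k))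
    rw [map_sub, map_smul, LinearMap.comp_apply, HopfAlgebra.antipode_one, contract_regular,
      ← sliceL_comul] at h
    rwa [contract_regular, slice_comul_antipode]

variable (k A) in
/-- The irreducible component of the unit, a Hopf subalgebra. -/
def unitComp : Subalgebra k A where
  carrier := {x | ∃ n, x ∈ fil k A A n}
  mul_mem' := fun {a b} ⟨n, hn⟩ ⟨m, hm⟩ => ⟨n + m, mul_mem_fil _ n m rfl a hn b hm⟩
  one_mem' := ⟨1, one_mem_fil_one⟩
  add_mem' := fun {a b} ⟨n, hn⟩ ⟨m, hm⟩ =>
    ⟨max n m, add_mem (fil_mono (le_max_left n m) hn) (fil_mono (le_max_right n m) hm)⟩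
  zero_mem' := ⟨0, zero_mem _⟩
  algebraMap_mem' := fun r => ⟨1, by rw [Algebra.algebraMap_eq_smul_one]; exact Submodule.smul_mem _ r one_mem_fil_one⟩

lemma mem_unitComp {x : A} : x ∈ unitComp k A ↔ ∃ n, x ∈ fil k A A n := Iff.rfl

theorem isHopfSubalgebra_unitComp : SGA3.IsHopfSubalgebra k A (unitComp k A) := by
  refine ⟨fun b ⟨n, hn⟩ => ?_, fun b ⟨n, hn⟩ => ⟨n, antipode_mem_fil n b hn⟩⟩
  have h : Coalgebra.comul (R := k) b ∈
      LinearMap.range (TensorProduct.map (fil k A A n).subtype (fil k A A n).subtype) := by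
    refine (mem_range_map_iff _ _ _).2 ⟨fun φ => contract_mem (isSubcomod_fil n) φ hn, fun f => ?_⟩
    rw [sliceL_comul]
    exact contract_mem (isSubcomod_fil n) f hn
  obtain ⟨t, ht⟩ := h
  have hle : fil k A A n ≤ Subalgebra.toSubmodule (unitComp k A) := fun x hx => ⟨n, hx⟩
  refine ⟨TensorProduct.map (Submodule.inclusion hle) (Submodule.inclusion hle) t, ?_⟩
  rw [← ht, ← LinearMap.comp_apply, ← TensorProduct.map_comp]
  rfl

/-- The component is unipotent. -/
theorem isUnipotent_unitComp :
    letI := HopfSub.hopfAlgebra (isHopfSubalgebra_unitComp (k := k) (A := A))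
    HopfRep.IsUnipotent k (unitComp k A) := by
  classical
  letI := HopfSub.hopfAlgebra (isHopfSubalgebra_unitComp (k := k) (A := A))
  let ι := HopfSub.incl (isHopfSubalgebra_unitComp (k := k) (A := A))
  intro V _ _ _ hfin hnt
  obtain ⟨W₀, hW₀, -⟩ := exists_atom_le_of_finite (k := k)
    (isSubcomod_top (k := k) (A := unitComp k A) (V := V)) top_ne_bot
  let W := W₀.restrictScalars k
  have hWs : IsSubcomod (k := k) (A := unitComp k A) W := isSubcomod_restrictScalars W₀
  have hatom := (isSimpleModule_iff_atom hWs).1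
    (show IsSimpleModule (Dual k (unitComp k A)) (toSub W hWs) from hW₀)
  obtain ⟨w0, hw0, hw0n⟩ := (Submodule.ne_bot_iff W).1 hatom.1
  obtain ⟨f, hf⟩ := LinearMap.exists_leftInverse_of_injective (LinearMap.toSpanSingleton k V w0)
    (LinearMap.ker_toSpanSingleton k hw0n)
  have hfw : f w0 = 1 := by simpa using LinearMap.congr_fun hf 1
  let g := mc (unitComp k A) f
  have hg : Hoch.IsComodHom (unitComp k A) g := isComodHom_mc f
  have hinj : ∀ w ∈ W, g w = 0 → w = 0 := by
    intro w hw h0
    rcases hatom.2 _ (isSubcomod_inf hWs (isSubcomod_ker hg)) inf_le_left with h | h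
    · exact (Submodule.eq_bot_iff _).1 h w ⟨hw, h0⟩
    · exfalso
      have : g w0 = 0 := LinearMap.mem_ker.1 (h.ge hw0).2
      have h1 := congrArg (Coalgebra.counit (R := k)) this
      rw [counit_mc, hfw, map_zero] at h1
      exact one_ne_zero h1
  let P : ℕ → Prop := fun n => ∃ w ∈ W, w ≠ 0 ∧ ((g w : unitComp k A) : A) ∈ fil k A A n
  have hP : ∃ n, P n := by
    obtain ⟨n, hn⟩ := (g w0).2
    exact ⟨n, w0, hw0, hw0n, hn⟩
  obtain ⟨w, hw, hwn, hfil⟩ := Nat.find_spec hP
  refine (Submodule.ne_bot_iff _).2 ⟨w, ?_, hwn⟩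
  refine (eq_tmul_iff_contract (k := k) (A := unitComp k A) w 1).2 fun χ => ?_
  obtain ⟨φ, hφ⟩ := LinearMap.exists_extend (p := Subalgebra.toSubmodule (unitComp k A)) χ
  have hχ : χ = φ ∘ₗ (ι : unitComp k A →ₗ[k] A) := hφ.symm
  rw [← sub_eq_zero]
  by_contra hne
  rcases hn : Nat.find hP with _ | n
  · rw [hn] at hfil
    exact hwn (hinj w hw (Subtype.ext ((Submodule.mem_bot k).1 hfil)))
  refine Nat.find_min hP (m := n) (by omega) ⟨_, sub_mem (contract_mem hWs χ hw) (W.smul_mem _ hw), hne, ?_⟩
  rw [hn] at hfil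
  have h1 := mem_fil_succ_iff.1 hfil φ
  have h2 : contract φ ((g w : unitComp k A) : A) = ((contract χ (g w) : unitComp k A) : A) := by
    rw [hχ]
    exact TrigUnip.contract_comul_map ι φ (g w)
  rw [map_sub g, map_smul g, map_contract hg]
  show ((contract χ (g w) - χ 1 • g w : unitComp k A) : A) ∈ _
  rw [Subalgebra.coe_sub, Subalgebra.coe_smul, ← h2, hχ]
  exact h1

section Decomposition

/-- The part of the component translated by finitely many group-like elements. -/
def transl (F : Finset (GroupLike k A)) (N : ℕ) : Submodule k A :=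
  ⨆ g ∈ F, (fil k A A N).map (LinearMap.mulLeft k (g : A))

lemma transl_mono {F F' : Finset (GroupLike k A)} {N N' : ℕ} (hF : F ⊆ F') (hN : N ≤ N') :
    transl F N ≤ transl F' N' :=
  iSup₂_le fun g hg => le_trans (Submodule.map_mono (fil_mono hN))
    (le_iSup₂_of_le (f := fun g (_ : g ∈ F') => (fil k A A N').map (LinearMap.mulLeft k (g : A)))
      g (hF hg) le_rfl)

omit [Coalgebra.IsCocomm k A] in
lemma contract_mul_groupLike (φ : A →ₗ[k] k) (g : GroupLike k A) (x : A) :
    contract φ ((g : A) * x) = (g : A) * contract (φ ∘ₗ LinearMap.mulLeft k (g : A)) x := by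
  rw [contract_regular, contract_regular, Bialgebra.comul_mul, g.isGroupLikeElem_val.comul_eq_tmul_self]
  induction Coalgebra.comul (R := k) x using TensorProduct.induction_on with
  | zero => simp
  | tmul a b => simp [Algebra.TensorProduct.tmul_mul_tmul]
  | add a b ha hb => simp only [mul_add, map_add, ha, hb]

omit [Coalgebra.IsCocomm k A] in
lemma transl_le_comap {F : Finset (GroupLike k A)} {N : ℕ} {T : A →ₗ[k] A} {F' : Finset (GroupLike k A)}
    {N' : ℕ} (h : ∀ g ∈ F, ∀ x ∈ fil k A A N, T ((g : A) * x) ∈ transl F' N') :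
    transl F N ≤ (transl F' N').comap T :=
  iSup₂_le fun g hg => by
    rintro _ ⟨x, hx, rfl⟩
    exact h g hg x hx

lemma contract_mem_transl (φ : A →ₗ[k] k) (F : Finset (GroupLike k A)) (N : ℕ) {y : A}
    (hy : y ∈ transl F N) : contract φ y ∈ transl F N := by
  refine transl_le_comap (T := contract φ) (fun g hg x hx => ?_) hy
  rw [contract_mul_groupLike]
  exact le_iSup₂ (f := fun g (_ : g ∈ F) => (fil k A A N).map (LinearMap.mulLeft k (g : A))) g hg
    ⟨_, contract_mem (isSubcomod_fil N) _ hx, rfl⟩

/-- An operator killing the translate by `g`. -/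
def killer (φ : A →ₗ[k] k) : A →ₗ[k] A := LinearMap.id - contract (V := A) φ

lemma killer_pow_translate (φ : A →ₗ[k] k) (g : GroupLike k A) (hg : φ (g : A) = 1) :
    ∀ n, ∀ x ∈ fil k A A n, (killer φ ^ n) ((g : A) * x) = 0 := by
  intro n
  induction n with
  | zero => intro x hx; rw [show x = 0 from (Submodule.mem_bot k).1 hx, mul_zero, map_zero]
  | succ n ih =>
    intro x hx
    rw [pow_succ, Module.End.mul_apply]
    have h := mem_fil_succ_iff.1 hx (φ ∘ₗ LinearMap.mulLeft k (g : A))
    rw [LinearMap.comp_apply, LinearMap.mulLeft_apply, mul_one, hg, one_smul] at h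
    have e : killer φ ((g : A) * x) = (g : A) * -(contract (φ ∘ₗ LinearMap.mulLeft k (g : A)) x - x) := by
      rw [killer, LinearMap.sub_apply, LinearMap.id_apply, contract_mul_groupLike]
      ring
    rw [e]
    exact ih _ (neg_mem h)

lemma killer_mem_transl (φ : A →ₗ[k] k) (F : Finset (GroupLike k A)) (N n : ℕ) {y : A}
    (hy : y ∈ transl F N) : (killer φ ^ n) y ∈ transl F N := by
  induction n with
  | zero => simpa using hy
  | succ n ih =>
    rw [pow_succ', Module.End.mul_apply, killer, LinearMap.sub_apply, LinearMap.id_apply]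
    exact sub_mem ih (contract_mem_transl φ F N ih)

/-- An element all of whose deviations lie in translates of the component lies in them. -/
theorem mem_transl_of_dev (N : ℕ) : ∀ (F : Finset (GroupLike k A)) (v : A),
    (∀ ψ : A →ₗ[k] k, dev ψ v ∈ transl F N) → ∃ (F' : Finset (GroupLike k A)) (N' : ℕ), v ∈ transl F' N' := by
  classical
  intro F
  induction F using Finset.strongInduction with
  | _ F ih =>
    intro v hv
    by_cases hF : ∃ g ∈ F, g ≠ 1
    · obtain ⟨g, hgF, hg1⟩ := hF
      have hgA : (g : A) ∉ Submodule.span k {(1 : A)} := fun h => by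
        obtain ⟨c, hc⟩ := Submodule.mem_span_singleton.1 h
        have h1 := congrArg (Coalgebra.counit (R := k)) hc
        rw [map_smul, Bialgebra.counit_one, g.isGroupLikeElem_val.counit_eq_one, smul_eq_mul, mul_one] at h1
        exact hg1 (GroupLike.ext (by rw [← hc, h1, one_smul]; rfl))
      obtain ⟨φ₀, hφ₀, hle⟩ := Submodule.exists_le_ker_of_notMem hgA
      let φ : A →ₗ[k] k := (φ₀ (g : A))⁻¹ • φ₀
      have hφg : φ (g : A) = 1 := inv_mul_cancel₀ hφ₀
      have hφ1 : φ 1 = 0 := by
        show (φ₀ (g : A))⁻¹ * φ₀ 1 = 0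
        rw [show φ₀ 1 = 0 from hle (Submodule.mem_span_singleton_self _), mul_zero]
      let v' := (killer φ ^ N) v
      have hsub : ∀ n, v - (killer φ ^ n) v ∈ transl F N := by
        intro n
        induction n with
        | zero => simp
        | succ n ihn =>
          have h1 : contract φ v ∈ transl F N := by
            have := hv φ
            rwa [dev_apply, hφ1, zero_smul, sub_zero] at this
          have e : v - (killer φ ^ (n + 1)) v =
              (v - (killer φ ^ n) v) + contract φ v - contract φ (v - (killer φ ^ n) v) := by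
            rw [pow_succ', Module.End.mul_apply, killer, LinearMap.sub_apply, LinearMap.id_apply, map_sub]
            abel
          rw [e]
          exact sub_mem (add_mem ihn h1) (contract_mem_transl φ F N ihn)
      have hv' : ∀ ψ : A →ₗ[k] k, dev ψ v' ∈ transl (F.erase g) N := by
        intro ψ
        have hc : Commute (dev ψ) (killer φ) := by
          refine LinearMap.ext fun x => ?_
          simp only [Module.End.mul_apply, dev, killer, LinearMap.sub_apply, LinearMap.smul_apply,
            LinearMap.id_apply, map_sub, map_smul]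
          rw [contract_comm]
          module
        show dev ψ ((killer φ ^ N) v) ∈ _
        rw [← Module.End.mul_apply, (hc.pow_right N).eq, Module.End.mul_apply]
        refine transl_le_comap (F := F) (N := N) (fun g' hg' x hx => ?_) (hv ψ)
        rcases eq_or_ne g' g with rfl | hne
        · rw [killer_pow_translate φ g' hφg N x hx]; exact zero_mem _
        · refine killer_mem_transl φ _ N N ?_
          exact le_iSup₂ (f := fun a (_ : a ∈ F.erase g) => (fil k A A N).map (LinearMap.mulLeft k (a : A)))
            g' (Finset.mem_erase.2 ⟨hne, hg'⟩) ⟨x, hx, rfl⟩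
      obtain ⟨F', N', h'⟩ := ih _ (Finset.erase_ssubset hgF) v' hv'
      refine ⟨F' ∪ F, max N' N, ?_⟩
      rw [← sub_add_cancel v v']
      exact add_mem (transl_mono Finset.subset_union_right (le_max_right _ _) (hsub N))
        (transl_mono Finset.subset_union_left (le_max_left _ _) h')
    · push Not at hF
      refine ⟨{1}, N + 1, le_iSup₂ (f := fun a (_ : a ∈ ({1} : Finset (GroupLike k A))) =>
        (fil k A A (N + 1)).map (LinearMap.mulLeft k (a : A))) 1 (Finset.mem_singleton_self _) ?_⟩
      refine ⟨v, mem_fil_succ_dev.2 fun ψ => ?_, one_mul v⟩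
      have hle : transl F N ≤ fil k A A N := iSup₂_le fun g hg => by
        rintro _ ⟨x, hx, rfl⟩
        rw [hF g hg, LinearMap.mulLeft_apply]
        show (1 : A) * x ∈ _
        rwa [one_mul]
      exact hle (hv ψ)

variable (k A) in
/-- The sum of all translates of the component. -/
def translAll : Submodule k A := ⨆ p : Finset (GroupLike k A) × ℕ, transl p.1 p.2

lemma mem_translAll {x : A} : x ∈ translAll k A ↔ ∃ (F : Finset (GroupLike k A)) (N : ℕ), x ∈ transl F N := by
  classical
  rw [translAll, Submodule.mem_iSup_of_directed]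
  · simp
  · intro p q
    exact ⟨(p.1 ∪ q.1, max p.2 q.2), transl_mono Finset.subset_union_left (le_max_left _ _),
      transl_mono Finset.subset_union_right (le_max_right _ _)⟩

lemma contract_mem_translAll (φ : A →ₗ[k] k) {x : A} (hx : x ∈ translAll k A) :
    contract φ x ∈ translAll k A := by
  obtain ⟨F, N, h⟩ := mem_translAll.1 hx
  exact mem_translAll.2 ⟨F, N, contract_mem_transl φ F N h⟩

lemma mul_mem_translAll (h : GroupLike k A) {x : A} (hx : x ∈ translAll k A) :
    (h : A) * x ∈ translAll k A := by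
  classical
  obtain ⟨F, N, hxF⟩ := mem_translAll.1 hx
  refine mem_translAll.2 ⟨F.image (h * ·), N, ?_⟩
  refine transl_le_comap (T := LinearMap.mulLeft k (h : A)) (fun g hg y hy => ?_) hxF
  exact le_iSup₂ (f := fun a (_ : a ∈ F.image (h * ·)) => (fil k A A N).map (LinearMap.mulLeft k (a : A)))
    (h * g) (Finset.mem_image_of_mem _ hg) ⟨y, hy, mul_assoc _ _ _⟩

theorem mem_translAll_of_dev {v : A} (hv : ∀ ψ : A →ₗ[k] k, dev ψ v ∈ translAll k A) : v ∈ translAll k A := by
  classical
  let L : (A →ₗ[k] k) →ₗ[k] A :=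
    { toFun := fun ψ => dev ψ v
      map_add' := fun ψ χ => by
        simp only [dev_apply, contract_regular, slice, LinearMap.lTensor_add, LinearMap.comp_apply,
          LinearMap.add_apply, map_add, add_smul]
        abel
      map_smul' := fun c ψ => by
        simp only [dev_apply, contract_regular, slice, LinearMap.lTensor_smul, LinearMap.comp_apply,
          LinearMap.smul_apply, map_smul, smul_sub, smul_smul, smul_eq_mul, RingHom.id_apply] }
  obtain ⟨S, hS⟩ := TensorProduct.exists_finset (Coalgebra.comul (R := k) v)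
  have hle : LinearMap.range L ≤ Submodule.span k ((insert v (S.image Prod.fst) : Finset A) : Set A) := by
    rintro _ ⟨ψ, rfl⟩
    show dev ψ v ∈ _
    rw [dev_apply, contract_regular, hS, map_sum]
    refine sub_mem (Submodule.sum_mem _ fun p hp => ?_) (Submodule.smul_mem _ _ (Submodule.subset_span (by simp)))
    rw [slice_tmul]
    exact Submodule.smul_mem _ _ (Submodule.subset_span (Finset.mem_coe.2 (Finset.mem_insert_of_mem
      (Finset.mem_image_of_mem _ hp))))
  obtain ⟨t, ht⟩ : (LinearMap.range L).FG := Submodule.FG.of_le (Submodule.fg_span (Finset.finite_toSet _)) hle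
  have htM : ∀ y : t, ∃ (F : Finset (GroupLike k A)) (N : ℕ), (y : A) ∈ transl F N := fun y => by
    obtain ⟨ψ, hψ⟩ := (ht ▸ Submodule.subset_span y.2 : (y : A) ∈ LinearMap.range L)
    exact mem_translAll.1 (hψ ▸ hv ψ)
  choose F N hFN using htM
  obtain ⟨F', N', h⟩ := mem_transl_of_dev (Finset.univ.sup N) (Finset.univ.biUnion F) v fun ψ => by
    have h1 : L ψ ∈ Submodule.span k (t : Set A) := ht ▸ LinearMap.mem_range_self L ψ
    refine Submodule.span_le.2 (fun y hy => ?_) h1
    exact transl_mono (Finset.subset_biUnion_of_mem F (Finset.mem_univ _)) (Finset.le_sup (Finset.mem_univ _))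
      (hFN ⟨y, hy⟩)
  exact mem_translAll.2 ⟨F', N', h⟩

/-- A trigonalisable cocommutative Hopf algebra is the sum of the translates of the component. -/
theorem translAll_eq_top (hT : HopfRep.IsTrigonalizable k A) : translAll k A = ⊤ := by
  refine Submodule.eq_top_iff'.2 fun x => ?_
  obtain ⟨U, hUf, hxU, hU⟩ := exists_finite_subcomod (k := k) (A := A) (V := A) {x}
  letI cU : HopfRep.Comod k A U := ComodSub.Comod.restr (HopfRep.Comod.regular k A) U hU
  have hι : Hoch.IsComodHom A U.subtype :=
    (ComodSub.rTensor_subtype_comp_restrCoact (HopfRep.Comod.regular k A) U hU).symm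
  have hM : IsSubcomod (k := k) (A := A) (translAll k A) :=
    isSubcomod_iff.2 fun φ v hv => contract_mem_translAll φ hv
  by_contra hx
  have hne : (translAll k A).comap U.subtype ≠ ⊤ := fun h =>
    hx ((h ▸ Submodule.mem_top : (⟨x, hxU (by simp)⟩ : U) ∈ (translAll k A).comap U.subtype))
  obtain ⟨v, hv, -, a, ha, hva⟩ := TrigUnip.exists_eigen_mod hT _ hne (isSubcomod_comap hι hM)
  let g : GroupLike k A := ⟨a, ha⟩
  refine hv ?_
  have hb : ((g⁻¹ : GroupLike k A) : A) * a = 1 := by rw [GroupLike.val_inv]; exact ha.antipode_mul_cancel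
  have key : ((g⁻¹ : GroupLike k A) : A) * (v : A) ∈ translAll k A := mem_translAll_of_dev fun φ => by
    rw [dev_apply, contract_mul_groupLike, ← mul_smul_comm, ← mul_sub]
    refine mul_mem_translAll _ ?_
    have h := hva (φ ∘ₗ LinearMap.mulLeft k ((g⁻¹ : GroupLike k A) : A))
    rw [Submodule.mem_comap, map_sub, map_smul, map_contract hι, LinearMap.comp_apply,
      LinearMap.mulLeft_apply, hb] at h
    exact h
  have h2 := mul_mem_translAll g key
  rwa [← mul_assoc, show (g : A) * ((g⁻¹ : GroupLike k A) : A) = 1 from by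
    rw [mul_comm]; exact hb, one_mul] at h2

end Decomposition

end Groth.Agent.CocommUnip19
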