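import Groth.Agent.CocommUnip19.Basic
import Groth.Agent.Comod.Cocomm
import Groth.Agent.Comod.KerHopf
import Groth.Agent.Comod.Image2
import Groth.Agent.MultType.Diag
import Groth.Agent.S7966
import Groth.Agent.S2966
import Groth.Agent.S7979

/-!
# The largest subgroup of multiplicative type of a commutative affine group
-/

set_option autoImplicit false
set_option linter.style.haveILetI false
set_option synthInstance.maxHeartbeats 400000

universe u

noncomputable section

open TensorProduct WithConv

namespace Groth.Agent.CocommUnip19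

open HopfRep Groth.Agent.Comod

variable {k : Type u} [Field k] {A : Type u} [CommRing A] [HopfAlgebra k A]

/-- The coordinate of an element of a base change. -/
def coord {K : Type u} [Field K] [Algebra k K] {ι : Type u} (b : Module.Basis ι k K) (i : ι) :
    K ⊗[k] A →ₗ[k] A :=
  (TensorProduct.lid k A).toLinearMap ∘ₗ (b.coord i).rTensor A

lemma coord_tmul {K : Type u} [Field K] [Algebra k K] {ι : Type u} (b : Module.Basis ι k K) (i : ι) (c : K)
    (a : A) : coord b i (c ⊗ₜ[k] a) = b.coord i c • a := by simp [coord]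

variable (K : Type u) [Field K] [Algebra k K]

lemma dev_baseChange (φ : A →ₗ[k] k) (x : K ⊗[k] A) :
    dev ((TensorProduct.AlgebraTensorModule.rid k K K).toLinearMap ∘ₗ φ.baseChange K) x =
      (dev φ).baseChange K x := by
  set φK := (TensorProduct.AlgebraTensorModule.rid k K K).toLinearMap ∘ₗ φ.baseChange K
  induction x using TensorProduct.induction_on with
  | zero => simp
  | add a b ha hb => simp only [map_add, ha, hb]
  | tmul c a =>
    have h1 : φK 1 = algebraMap k K (φ 1) := by
      simp [φK, Algebra.TensorProduct.one_def, Algebra.algebraMap_eq_smul_one]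
    have h2 : contract φK ((1 : K) ⊗ₜ[k] a) = (1 : K) ⊗ₜ[k] contract φ a := by
      refine S7966.comul_tensor K a (slice φK)
        ((TensorProduct.mk k K A 1) ∘ₗ slice φ : A ⊗[k] A →ₗ[k] K ⊗[k] A).toAddMonoidHom fun x y => ?_
      simp [φK, TensorProduct.tmul_smul]
    rw [show c ⊗ₜ[k] a = c • ((1 : K) ⊗ₜ[k] a) by simp [TensorProduct.smul_tmul'], map_smul, map_smul, dev_apply,
      h2, h1, LinearMap.baseChange_tmul, dev_apply, algebraMap_smul, ← TensorProduct.tmul_smul,
      ← TensorProduct.tmul_sub]

lemma coord_mem_fil {ι : Type u} (b : Module.Basis ι k K) (i : ι) :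
    ∀ n, ∀ x ∈ fil K (K ⊗[k] A) (K ⊗[k] A) n, coord b i x ∈ fil k A A n
  | 0, x, hx => by
    rw [show x = 0 from (Submodule.mem_bot K).1 hx, map_zero]
    exact zero_mem _
  | n + 1, x, hx => by
    refine mem_fil_succ_dev.2 fun φ => ?_
    have h := coord_mem_fil b i n _ ((mem_fil_succ_dev.1 hx)
      ((TensorProduct.AlgebraTensorModule.rid k K K).toLinearMap ∘ₗ φ.baseChange K))
    rw [dev_baseChange] at h
    have e : ∀ z : K ⊗[k] A, coord b i ((dev φ).baseChange K z) = dev φ (coord b i z) := fun z => by
      induction z using TensorProduct.induction_on with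
      | zero => simp
      | add a b ha hb => simp only [map_add, ha, hb]
      | tmul c a => rw [LinearMap.baseChange_tmul, coord_tmul, coord_tmul, map_smul]
    rwa [e] at h

variable [Coalgebra.IsCocomm k A]

variable (k A) in
/-- The ideal cutting out the largest subgroup of multiplicative type. -/
def multIdeal : Ideal A :=
  letI := HopfSub.hopfAlgebra (isHopfSubalgebra_unitComp (k := k) (A := A))
  KerHopf.kerIdeal (HopfSub.incl (isHopfSubalgebra_unitComp (k := k) (A := A)))

instance isHopfIdeal_multIdeal : (multIdeal k A).IsHopfIdeal k := by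
  letI := HopfSub.hopfAlgebra (isHopfSubalgebra_unitComp (k := k) (A := A))
  exact KerHopf.isHopfIdeal _

theorem isMultTypeConst_multIdeal : SGA3b.IsMultTypeConst k (A ⧸ multIdeal k A) := by
  let L := AlgebraicClosure k
  refine ⟨L, inferInstance, inferInstance, inferInstance, MultType.Diag.isDiag_of_span ?_⟩
  let π : L ⊗[k] A →ₐc[L] L ⊗[k] (A ⧸ multIdeal k A) :=
    Bialgebra.TensorProduct.map (BialgHom.id L L) (Bialgebra.Quotient.mkBialgHom (multIdeal k A))
  refine Submodule.eq_top_iff'.2 fun y => ?_
  obtain ⟨x, rfl⟩ : ∃ x, π x = y := by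
    induction y using TensorProduct.induction_on with
    | zero => exact ⟨0, map_zero _⟩
    | add a b ha hb =>
      obtain ⟨a', rfl⟩ := ha
      obtain ⟨b', rfl⟩ := hb
      exact ⟨a' + b', map_add _ _ _⟩
    | tmul c q =>
      obtain ⟨a, rfl⟩ := Ideal.Quotient.mk_surjective q
      exact ⟨c ⊗ₜ[k] a, by simp [π, Bialgebra.Quotient.mkBialgHom] <;> rfl⟩
  have hx : x ∈ translAll L (L ⊗[k] A) := by
    rw [translAll_eq_top (Comod.isTrigonalizable_of_cocomm (k := L) (A := L ⊗[k] A))]
    trivial
  obtain ⟨F, N, hxF⟩ := mem_translAll.1 hx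
  let S := Submodule.span L {z : L ⊗[k] (A ⧸ multIdeal k A) | IsGroupLikeElem L z}
  suffices h : transl F N ≤ S.comap (π : L ⊗[k] A →ₗ[L] L ⊗[k] (A ⧸ multIdeal k A)) from h hxF
  refine iSup₂_le fun g _ => ?_
  rintro _ ⟨z, hz, rfl⟩
  rw [Submodule.mem_comap, LinearMap.mulLeft_apply]
  show π ((g : L ⊗[k] A) * z) ∈ S
  obtain ⟨b⟩ : Nonempty (Module.Basis (Module.Free.ChooseBasisIndex k L) k L) := ⟨Module.Free.chooseBasis k L⟩
  -- the component maps to scalars
  have hsc : ∃ c : L, π z = algebraMap L _ c := by
    classical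
    let d := TensorProduct.equivFinsuppOfBasisLeft b z
    have hd : ∀ i, d i = coord b i z := fun i => by
      have : ∀ w : L ⊗[k] A, TensorProduct.equivFinsuppOfBasisLeft b w i = coord b i w := fun w => by
        induction w using TensorProduct.induction_on with
        | zero => simp
        | add a c ha hc => simp only [map_add, Finsupp.add_apply, ha, hc]
        | tmul c a => simp [coord_tmul]
      exact this z
    refine ⟨∑ i ∈ d.support, Coalgebra.counit (R := k) (d i) • b i, ?_⟩
    conv_lhs => rw [← (TensorProduct.equivFinsuppOfBasisLeft b).symm_apply_apply z]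
    rw [show (TensorProduct.equivFinsuppOfBasisLeft b z) = d from rfl, TensorProduct.equivFinsuppOfBasisLeft_symm_apply]
    simp only [Finsupp.sum, map_sum]
    refine Finset.sum_congr rfl fun i _ => ?_
    have hm : d i ∈ unitComp k A := by rw [hd]; exact ⟨N, coord_mem_fil L b i N z hz⟩
    letI := HopfSub.hopfAlgebra (isHopfSubalgebra_unitComp (k := k) (A := A))
    have hq : Ideal.Quotient.mk (multIdeal k A) (d i) =
        algebraMap k (A ⧸ multIdeal k A) (Coalgebra.counit (R := k) (d i)) :=
      KerHopf.mk_comp (HopfSub.incl (isHopfSubalgebra_unitComp (k := k) (A := A))) ⟨d i, hm⟩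
    show b i ⊗ₜ[k] Ideal.Quotient.mk (multIdeal k A) (d i) = _
    rw [hq]
    simp [Algebra.algebraMap_eq_smul_one, Algebra.TensorProduct.one_def, TensorProduct.smul_tmul',
      TensorProduct.tmul_smul]
  obtain ⟨c, hc⟩ := hsc
  rw [map_mul, hc, mul_comm, ← Algebra.smul_def]
  exact S.smul_mem c (Submodule.subset_span (g.isGroupLikeElem_val.map π))

omit [Coalgebra.IsCocomm k A] in
lemma eq_zero_of_primitive_monoidAlgebra {R : Type u} [CommRing R] {M : Type u} [CommGroup M]
    (x : MonoidAlgebra R M) (hx : Coalgebra.comul (R := R) x = x ⊗ₜ[R] 1 + 1 ⊗ₜ[R] x) : x = 0 := by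
  classical
  have hc : ∀ (m : M) (y : MonoidAlgebra R M), MultType.Coef.coeffLin (R := R) m y = y.coeff m := fun _ _ => rfl
  have key : ∀ (m n : M) (y : MonoidAlgebra R M),
      LinearMap.mul' R R (TensorProduct.map (MultType.Coef.coeffLin (R := R) m) (MultType.Coef.coeffLin (R := R) n)
        (Coalgebra.comul (R := R) y)) = if m = n then y.coeff m else 0 := by
    intro m n y
    induction y using MonoidAlgebra.induction_linear with
    | zero => simp
    | add a b ha hb => simp only [map_add, ha, hb, MonoidAlgebra.coeff_add, Finsupp.add_apply]; split <;> simp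
    | single g r =>
      simp only [MonoidAlgebra.comul_single, CommSemiring.comul_apply, TensorProduct.map_tmul,
        hc, MonoidAlgebra.coeff_single, Finsupp.single_apply, LinearMap.mul'_apply]
      by_cases h1 : g = m <;> by_cases h2 : g = n <;> by_cases h3 : m = n <;> simp_all
  refine MonoidAlgebra.ext (Finsupp.ext fun m => ?_)
  have h := key m m x
  rw [hx] at h
  simp only [map_add, TensorProduct.map_tmul, LinearMap.mul'_apply, hc, MonoidAlgebra.one_def, MonoidAlgebra.coeff_single, Finsupp.single_apply, if_pos rfl] at h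
  by_cases hm : (1 : M) = m
  · rw [if_pos hm, mul_one, one_mul, if_pos trivial, add_eq_left] at h
    simpa using h
  · rw [if_neg hm, mul_zero, zero_mul, add_zero] at h
    simpa using h.symm

/-- Diagonalisability over the algebraic closure of a cocommutative group of multiplicative type. -/
theorem isDiagonalizable_of_isMultTypeConst {C : Type u} [CommRing C] [HopfAlgebra k C]
    [Algebra.FiniteType k C] [Coalgebra.IsCocomm k C] (h : SGA3b.IsMultTypeConst k C) :
    HopfRep.IsDiagonalizable (AlgebraicClosure k) (AlgebraicClosure k ⊗[k] C) := by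
  refine (S7979.result k C).2 ⟨inferInstance, fun f hf => ?_⟩
  obtain ⟨T, _, _, hT, M, _, ⟨e⟩⟩ := h
  have h0 : e ((1 : T) ⊗ₜ[k] f) = 0 := by
    refine eq_zero_of_primitive_monoidAlgebra _ ?_
    rw [← CoalgHomClass.map_comp_comul_apply e, TensorProduct.comul_tmul, CommSemiring.comul_apply, hf]
    simp [TensorProduct.tmul_add, Algebra.TensorProduct.one_def]
    rw [← Algebra.TensorProduct.one_def, map_one]
  have h1 : (1 : T) ⊗ₜ[k] f = 0 := EquivLike.injective e (h0.trans (map_zero e).symm)
  exact (Module.FaithfullyFlat.one_tmul_eq_zero_iff (R := k) (A := T) (M := C) f).1 h1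

theorem multIdeal_le [Algebra.FiniteType k A] (I : Ideal A) [I.IsHopfIdeal k]
    (hI : SGA3b.IsMultTypeConst k (A ⧸ I)) : multIdeal k A ≤ I := by
  haveI : Coalgebra.IsCocomm k (A ⧸ I) := ⟨LinearMap.ext fun q => by
    obtain ⟨a, rfl⟩ := Ideal.Quotient.mk_surjective q
    let π := Bialgebra.Quotient.mkBialgHom (R := k) I
    show TensorProduct.comm k _ _ (Coalgebra.comul (R := k) (π a)) = Coalgebra.comul (R := k) (π a)
    rw [← CoalgHomClass.map_comp_comul_apply π a, ← TensorProduct.map_comm, Coalgebra.comm_comul]⟩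
  letI := HopfSub.hopfAlgebra (isHopfSubalgebra_unitComp (k := k) (A := A))
  let ι := HopfSub.incl (isHopfSubalgebra_unitComp (k := k) (A := A))
  haveI : Algebra.FiniteType k (unitComp k A) := Comod.Image2.finiteType_of_injective ι Subtype.val_injective
  haveI : Algebra.FiniteType k (A ⧸ I) :=
    Algebra.FiniteType.of_surjective (Ideal.Quotient.mkₐ k I) Ideal.Quotient.mk_surjective
  have h := (S2966.result (isDiagonalizable_of_isMultTypeConst hI) (isUnipotent_unitComp (k := k) (A := A))).1
    ((Bialgebra.Quotient.mkBialgHom I).comp ι)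
  refine Ideal.map_le_iff_le_comap.2 fun b hb => ?_
  rw [RingHom.mem_ker, Bialgebra.counitAlgHom_apply] at hb
  have h1 : Ideal.Quotient.mk I (ι b) = 0 := (h b).trans (by rw [hb, map_zero])
  exact (Ideal.Quotient.eq_zero_iff_mem.1 h1 :)

end Groth.Agent.CocommUnip19
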