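import Groth.Agent.CocommUnip19.Mult
import Groth.Agent.Comod.TrigGalois
import Mathlib.FieldTheory.Galois.Infinite

/-!
# Splitting a commutative affine group over a perfect field
-/

set_option autoImplicit false
set_option linter.style.haveILetI false
set_option synthInstance.maxHeartbeats 400000
set_option maxHeartbeats 1000000

universe u

noncomputable section

open TensorProduct WithConv

namespace Groth.Agent.CocommUnip19

open HopfRep Groth.Agent.Comod

variable {k : Type u} [Field k] {A : Type u} [CommRing A] [HopfAlgebra k A]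

/-- Descent of a Galois stable subspace. -/
theorem le_span_of_galois {K : Type u} [Field K] [Algebra k K] [IsGalois k K] {N : Type u} [AddCommGroup N]
    [Module k N] (V : Submodule K (K ⊗[k] N))
    (hV : ∀ (σ : K ≃ₐ[k] K) (z : K ⊗[k] N), z ∈ V → σ.toLinearMap.rTensor N z ∈ V) :
    V ≤ Submodule.span K ((fun a => (1 : K) ⊗ₜ[k] a) '' {a | (1 : K) ⊗ₜ[k] a ∈ V}) := by
  classical
  let D : Submodule k N := (V.restrictScalars k).comap (TensorProduct.mk k K N 1)
  let T := Submodule.span K ((fun a => (1 : K) ⊗ₜ[k] a) '' (D : Set N))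
  show V ≤ T
  have hTV : T ≤ V := Submodule.span_le.2 fun _ ⟨a, ha, h⟩ => h ▸ ha
  -- everything killed by the quotient lies in `T`
  have hker : ∀ z : K ⊗[k] N, D.mkQ.baseChange K z = 0 → z ∈ T := by
    intro z hz
    obtain ⟨y, rfl⟩ := (lTensor_exact K (LinearMap.exact_subtype_mkQ D) D.mkQ_surjective z).1 hz
    induction y using TensorProduct.induction_on with
    | zero => rw [map_zero]; exact zero_mem _
    | add a b ha hb =>
      rw [map_add]
      exact add_mem (ha (by
        exact (lTensor_exact K (LinearMap.exact_subtype_mkQ D) D.mkQ_surjective _).2 ⟨a, rfl⟩))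
        (hb (by exact (lTensor_exact K (LinearMap.exact_subtype_mkQ D) D.mkQ_surjective _).2 ⟨b, rfl⟩))
    | tmul c d =>
      rw [LinearMap.lTensor_tmul, show c ⊗ₜ[k] (D.subtype d) = c • ((1 : K) ⊗ₜ[k] (d : N)) by
        simp [TensorProduct.smul_tmul']]
      exact T.smul_mem c (Submodule.subset_span ⟨d, d.2, rfl⟩)
  let b := Module.Free.chooseBasis k (N ⧸ D)
  let co := fun z : K ⊗[k] N => TensorProduct.equivFinsuppOfBasisRight b (D.mkQ.baseChange K z)
  suffices h : ∀ (n : ℕ) (z : K ⊗[k] N), z ∈ V → (co z).support.card ≤ n → co z = 0 by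
    intro z hz
    refine hker z ((TensorProduct.equivFinsuppOfBasisRight b).injective ?_)
    rw [map_zero]
    exact h _ z hz le_rfl
  intro n
  induction n with
  | zero => exact fun z _ h => Finsupp.support_eq_empty.1 (Finset.card_eq_zero.1 (Nat.le_zero.1 h))
  | succ n ih =>
    intro z hz hcard
    by_contra hne
    obtain ⟨i, hi⟩ := Finsupp.support_nonempty_iff.2 hne
    let w := (co z i)⁻¹ • z
    have hw : w ∈ V := V.smul_mem _ hz
    have hsmul : ∀ (c : K) (y : K ⊗[k] N) (j), co (c • y) j = c * co y j := fun c y j => by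
      simp only [co, map_smul]
      induction D.mkQ.baseChange K y using TensorProduct.induction_on with
      | zero => simp
      | tmul s q => simp [TensorProduct.smul_tmul']
      | add p q hp hq => simp only [smul_add, map_add, Finsupp.add_apply, hp, hq, mul_add]
    have hwi : co w i = 1 := by
      rw [hsmul, inv_mul_cancel₀ (Finsupp.mem_support_iff.1 hi)]
    have hσco : ∀ (σ : K ≃ₐ[k] K) (y : K ⊗[k] N) (j), co (σ.toLinearMap.rTensor N y) j = σ (co y j) := by
      intro σ y j
      induction y using TensorProduct.induction_on with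
      | zero => simp [co]
      | tmul s q => simp [co]
      | add p q hp hq => simp only [co, map_add, Finsupp.add_apply] at hp hq ⊢; rw [hp, hq]
    have hfix : ∀ (σ : K ≃ₐ[k] K) j, σ (co w j) = co w j := by
      intro σ
      have hmem : σ.toLinearMap.rTensor N w - w ∈ V := sub_mem (hV σ w hw) hw
      have hval : ∀ j, co (σ.toLinearMap.rTensor N w - w) j = σ (co w j) - co w j := fun j => by
        rw [← hσco]
        simp [co]
      have hsub : (co (σ.toLinearMap.rTensor N w - w)).support ⊆ (co z).support.erase i := by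
        intro j hj
        rw [Finsupp.mem_support_iff, hval] at hj
        refine Finset.mem_erase.2 ⟨fun e => hj (by rw [e, hwi, map_one, sub_self]), ?_⟩
        rw [Finsupp.mem_support_iff]
        intro h0
        exact hj (by rw [hsmul, h0, mul_zero, map_zero, sub_self])
      have h0 := ih _ hmem (by
        have h1 := Finset.card_le_card hsub
        rw [Finset.card_erase_of_mem hi] at h1
        omega)
      intro j
      rw [← sub_eq_zero, ← hval, h0, Finsupp.zero_apply]
    have hr : ∀ j, ∃ r : k, algebraMap k K r = co w j := fun j =>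
      IntermediateField.mem_bot.1 ((InfiniteGalois.mem_bot_iff_fixed _).2 fun σ => hfix σ j)
    choose r hr' using hr
    let q : N ⧸ D := ∑ j ∈ (co w).support, r j • b j
    obtain ⟨a, ha⟩ := D.mkQ_surjective q
    have hwa : D.mkQ.baseChange K (w - (1 : K) ⊗ₜ[k] a) = 0 := by
      rw [map_sub, LinearMap.baseChange_tmul, sub_eq_zero]
      apply (TensorProduct.equivFinsuppOfBasisRight b).injective
      ext j
      show co w j = _
      rw [ha, TensorProduct.equivFinsuppOfBasisRight_apply_tmul_apply]
      simp only [q, map_sum, map_smul, Finsupp.finsetSum_apply, Finsupp.smul_apply, Module.Basis.repr_self,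
        Finsupp.single_apply, smul_eq_mul, mul_ite, mul_one, mul_zero, Finset.sum_ite_eq']
      by_cases hj : j ∈ (co w).support
      · rw [if_pos hj, ← hr' j, Algebra.algebraMap_eq_smul_one]
      · rw [if_neg hj, zero_smul, Finsupp.notMem_support_iff.1 hj]
    have haD : a ∈ D := by
      have := sub_mem hw (hTV (hker _ hwa))
      rwa [sub_sub_cancel] at this
    rw [LinearMap.baseChange, map_sub, sub_eq_zero] at hwa
    have h1 : co w i = 0 := by
      simp only [co, LinearMap.baseChange, hwa]
      simp [(Submodule.Quotient.mk_eq_zero D).2 haD]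
    exact one_ne_zero (hwi ▸ h1)

variable [Coalgebra.IsCocomm k A]

/-- An element of the component lying in translates avoiding the unit vanishes. -/
theorem eq_zero_of_mem_transl (N : ℕ) : ∀ (F : Finset (GroupLike k A)), (1 : GroupLike k A) ∉ F →
    ∀ x ∈ fil k A A N, x ∈ transl F N → x = 0 := by
  classical
  intro F
  induction F using Finset.strongInduction with
  | _ F ih =>
    intro h1 x hx hxF
    rcases F.eq_empty_or_nonempty with rfl | ⟨g, hgF⟩
    · simpa [transl] using hxF
    have hg1 : g ≠ 1 := fun h => h1 (h ▸ hgF)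
    have hgA : (g : A) ∉ Submodule.span k {(1 : A)} := fun h => by
      obtain ⟨c, hc⟩ := Submodule.mem_span_singleton.1 h
      have h1 := congrArg (Coalgebra.counit (R := k)) hc
      rw [map_smul, Bialgebra.counit_one, g.isGroupLikeElem_val.counit_eq_one, smul_eq_mul, mul_one] at h1
      exact hg1 (GroupLike.ext (by rw [← hc, h1, one_smul]; rfl))
    obtain ⟨φ₀, hφ₀, hle⟩ := Submodule.exists_le_ker_of_notMem hgA
    let φ : A →ₗ[k] k := (φ₀ (g : A))⁻¹ • φ₀
    have hφg : φ (g : A) = 1 := inv_mul_cancel₀ hφ₀
    have hφ1 : φ 1 = 0 := by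
      show (φ₀ (g : A))⁻¹ * φ₀ 1 = 0
      rw [show φ₀ 1 = 0 from hle (Submodule.mem_span_singleton_self _), mul_zero]
    have hfil : ∀ j, ∀ y ∈ fil k A A N, (killer φ ^ j) y ∈ fil k A A N := by
      intro j
      induction j with
      | zero => simp
      | succ j hj =>
        intro y hy
        rw [pow_succ', Module.End.mul_apply]
        exact sub_mem (hj y hy) (contract_mem (isSubcomod_fil N) φ (hj y hy))
    have hkinj : ∀ n, ∀ y ∈ fil k A A n, killer φ y = 0 → y = 0 := by
      intro n
      induction n with
      | zero => exact fun y hy _ => (Submodule.mem_bot k).1 hy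
      | succ n hn =>
        intro y hy h0
        have e : contract φ y = y := (sub_eq_zero.1 (show y - contract φ y = 0 from h0)).symm
        have := mem_fil_succ_iff.1 hy φ
        rw [hφ1, zero_smul, sub_zero, e] at this
        exact hn y this h0
    have h0 : (killer φ ^ N) x = 0 := by
      refine ih _ (Finset.erase_ssubset hgF) (fun h => h1 (Finset.mem_of_mem_erase h)) _ (hfil N x hx) ?_
      refine transl_le_comap (F := F) (N := N) (fun g' hg' y hy => ?_) hxF
      rcases eq_or_ne g' g with rfl | hne
      · rw [killer_pow_translate φ g' hφg N y hy]; exact zero_mem _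
      · refine killer_mem_transl φ _ N N ?_
        exact le_iSup₂ (f := fun a (_ : a ∈ F.erase g) => (fil k A A N).map (LinearMap.mulLeft k (a : A)))
          g' (Finset.mem_erase.2 ⟨hne, hg'⟩) ⟨y, hy, rfl⟩
    have key : ∀ j, (killer φ ^ j) x = 0 → x = 0 := by
      intro j
      induction j with
      | zero => simp
      | succ j hj =>
        intro h
        rw [pow_succ', Module.End.mul_apply] at h
        exact hj (hkinj N _ (hfil j x hx) h)
    exact key N h0

/-- The translates of the component are independent. -/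
theorem eq_zero_of_sum_transl (F : Finset (GroupLike k A)) (y : GroupLike k A → A) (N : ℕ)
    (hy : ∀ g ∈ F, y g ∈ fil k A A N) (h : ∑ g ∈ F, (g : A) * y g = 0) : ∀ g ∈ F, y g = 0 := by
  classical
  intro g₀ hg₀
  let F' := (F.erase g₀).image (g₀⁻¹ * ·)
  refine eq_zero_of_mem_transl N F' (fun h1 => ?_) _ (hy g₀ hg₀) ?_
  · obtain ⟨g, hg, hg'⟩ := Finset.mem_image.1 h1
    exact (Finset.mem_erase.1 hg).1 (inv_mul_eq_one.1 hg').symm
  · rw [← Finset.add_sum_erase F (fun g : GroupLike k A => (g : A) * y g) hg₀] at h
    have e : y g₀ = -∑ g ∈ F.erase g₀, ((g₀⁻¹ * g : GroupLike k A) : A) * y g := by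
      have h' := congrArg (((g₀⁻¹ : GroupLike k A) : A) * ·) h
      simp only [mul_add, Finset.mul_sum, mul_zero, ← mul_assoc, ← GroupLike.val_mul, inv_mul_cancel,
        GroupLike.val_one, one_mul] at h'
      exact eq_neg_of_add_eq_zero_left h'
    rw [e]
    refine neg_mem (Submodule.sum_mem _ fun g hg => ?_)
    exact le_iSup₂ (f := fun a (_ : a ∈ F') => (fil k A A N).map (LinearMap.mulLeft k (a : A)))
      (g₀⁻¹ * g) (Finset.mem_image_of_mem _ hg) ⟨_, hy g (Finset.mem_of_mem_erase hg), rfl⟩

omit [Coalgebra.IsCocomm k A] in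
theorem inc_mem_fil (K : Type u) [Field K] [Algebra k K] :
    ∀ n, ∀ a ∈ fil k A A n, (1 : K) ⊗ₜ[k] a ∈ fil K (K ⊗[k] A) (K ⊗[k] A) n
  | 0, a, ha => by
    rw [show a = 0 from (Submodule.mem_bot k).1 ha, TensorProduct.tmul_zero]
    exact zero_mem _
  | n + 1, a, ha => by
    refine mem_fil_succ_iff.2 fun χ => ?_
    have hu : contract χ ((1 : K) ⊗ₜ[k] a) - χ 1 • ((1 : K) ⊗ₜ[k] a) =
        Image.lam (Image.inc (k := k) (A := A) K) χ
          (Coalgebra.comul (R := k) a - a ⊗ₜ[k] (1 : A)) := by
      rw [map_sub, Image.lam_tmul]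
      exact congrArg₂ (· - ·) (Image.inc_comul K χ a) rfl
    rw [hu]
    obtain ⟨t, ht⟩ := mem_fil_succ.1 ha
    rw [show Coalgebra.comul (R := k) a - a ⊗ₜ[k] (1 : A) = _ from ht.symm]
    clear ht
    induction t using TensorProduct.induction_on with
    | zero => simp
    | add p q hp hq => rw [map_add, map_add]; exact add_mem hp hq
    | tmul u v =>
      rw [LinearMap.rTensor_tmul, Image.lam_tmul]
      exact Submodule.smul_mem _ _ (inc_mem_fil K n u u.2)

section Perfect

variable (k A) in
/-- The Hopf subalgebra of the quotient of multiplicative type. -/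
abbrev coradical : Subalgebra k A := TrigGalois.desc (k := k) (AlgebraicClosure k) A

/-- Multiplication from the coradical and the component. -/
def mulMap : coradical k A ⊗[k] unitComp k A →ₐ[k] A :=
  Algebra.TensorProduct.productMap (coradical k A).val (unitComp k A).val

variable [PerfectField k]

theorem surjective_mulMap : Function.Surjective (mulMap (k := k) (A := A)) := by
  classical
  let K := AlgebraicClosure k
  let V := TrigGalois.S (k := k) K A
  have hV : ∀ (σ : K ≃ₐ[k] K) (z : K ⊗[k] A), z ∈ V → σ.toLinearMap.rTensor A z ∈ V := by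
    intro σ z hz
    rw [show σ.toLinearMap.rTensor A z = MultType.GroupLike.bcMap σ.toAlgHom A z from rfl]
    induction hz using Submodule.span_induction with
    | mem z hz => exact Submodule.subset_span (MultType.GroupLike.map_isGroupLikeElem σ.toAlgHom hz)
    | zero => simp
    | add p q _ _ hp hq => rw [map_add]; exact add_mem hp hq
    | smul r p _ hp => rw [MultType.FieldSplit.bcMap_smul]; exact Submodule.smul_mem _ _ hp
  refine (Module.FaithfullyFlat.lTensor_surjective_iff_surjective k K (mulMap (k := k) (A := A)).toLinearMap).1 ?_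
  intro z
  show z ∈ LinearMap.range ((mulMap (k := k) (A := A)).toLinearMap.lTensor K)
  let M := Algebra.TensorProduct.map (AlgHom.id K K) (mulMap (k := k) (A := A))
  have hM : ∀ w, M w = (mulMap (k := k) (A := A)).toLinearMap.lTensor K w := fun w => by
    induction w using TensorProduct.induction_on with
    | zero => simp
    | tmul c a => rfl
    | add a b ha hb => simp only [map_add, ha, hb]
  suffices h : z ∈ M.range by
    obtain ⟨w, hw⟩ := h
    exact ⟨w, (hM w).symm.trans hw⟩
  have hz : z ∈ translAll K (K ⊗[k] A) := by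
    rw [translAll_eq_top (Comod.isTrigonalizable_of_cocomm (k := K) (A := K ⊗[k] A))]; trivial
  obtain ⟨F, N, hzF⟩ := mem_translAll.1 hz
  suffices h : transl F N ≤ Subalgebra.toSubmodule M.range from h hzF
  refine iSup₂_le fun g _ => ?_
  rintro _ ⟨y, hy, rfl⟩
  refine M.range.mul_mem ?_ ?_
  · have hg : (g : K ⊗[k] A) ∈ Submodule.span K ((fun a => (1 : K) ⊗ₜ[k] a) '' (coradical k A : Set A)) :=
      le_span_of_galois V hV (Submodule.subset_span g.isGroupLikeElem_val)
    refine Submodule.span_le (p := Subalgebra.toSubmodule M.range) |>.2 ?_ hg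
    rintro _ ⟨a, ha, rfl⟩
    exact ⟨(1 : K) ⊗ₜ[k] ((⟨a, ha⟩ : coradical k A) ⊗ₜ[k] (1 : unitComp k A)), by simp [M, mulMap]⟩
  · obtain ⟨b⟩ : Nonempty (Module.Basis (Module.Free.ChooseBasisIndex k K) k K) := ⟨Module.Free.chooseBasis k K⟩
    have hd' : ∀ (w : K ⊗[k] A) i, TensorProduct.equivFinsuppOfBasisLeft b w i = coord b i w := fun w i => by
      induction w using TensorProduct.induction_on with
      | zero => simp
      | add a c ha hc => simp only [map_add, Finsupp.add_apply, ha, hc]
      | tmul c a => simp [coord_tmul]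
    have hd := hd' y
    rw [← (TensorProduct.equivFinsuppOfBasisLeft b).symm_apply_apply y,
      TensorProduct.equivFinsuppOfBasisLeft_symm_apply]
    refine Submodule.sum_mem (Subalgebra.toSubmodule M.range |>.restrictScalars k) fun i _ => ?_
    have hm : TensorProduct.equivFinsuppOfBasisLeft b y i ∈ unitComp k A := by
      rw [hd]; exact ⟨N, coord_mem_fil K b i N y hy⟩
    exact ⟨b i ⊗ₜ[k] ((1 : coradical k A) ⊗ₜ[k] (⟨_, hm⟩ : unitComp k A)), by simp [M, mulMap]⟩

omit [PerfectField k] in
theorem injective_mulMap : Function.Injective (mulMap (k := k) (A := A)) := by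
  classical
  let K := AlgebraicClosure k
  rw [injective_iff_map_eq_zero]
  intro x hx
  let bB := Module.Free.chooseBasis k (unitComp k A)
  obtain ⟨c, rfl⟩ := TensorProduct.eq_repr_basis_right bB x
  have hgc : ∀ j, ∃ l : GroupLike K (K ⊗[k] A) →₀ K,
      Finsupp.linearCombination K (fun g : GroupLike K (K ⊗[k] A) => (g : K ⊗[k] A)) l =
        (1 : K) ⊗ₜ[k] ((c j : coradical k A) : A) := fun j => by
    rw [← LinearMap.mem_range, Finsupp.range_linearCombination]
    refine Submodule.span_mono ?_ ((c j).2 : (1 : K) ⊗ₜ[k] ((c j : coradical k A) : A) ∈ TrigGalois.S (k := k) K A)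
    intro z hz
    exact ⟨⟨z, hz⟩, rfl⟩
  choose l hl using hgc
  let F := c.support.biUnion fun j => (l j).support
  obtain ⟨N, hN⟩ : ∃ N, ∀ j ∈ c.support, ((bB j : unitComp k A) : A) ∈ fil k A A N := by
    have h : ∀ j, ∃ n, ((bB j : unitComp k A) : A) ∈ fil k A A n := fun j => (bB j).2
    choose n hn using h
    exact ⟨c.support.sup n, fun j hj => fil_mono (Finset.le_sup hj) (hn j)⟩
  let y : GroupLike K (K ⊗[k] A) → K ⊗[k] A := fun g =>
    ∑ j ∈ c.support, l j g • ((1 : K) ⊗ₜ[k] ((bB j : unitComp k A) : A))
  have hsum : ∑ g ∈ F, (g : K ⊗[k] A) * y g = 0 := by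
    have h1 := congrArg (fun a => (1 : K) ⊗ₜ[k] a) hx
    simp only [Finsupp.sum, map_sum, TensorProduct.tmul_sum, TensorProduct.tmul_zero] at h1
    refine Eq.trans ?_ h1
    simp only [y, Finset.mul_sum]
    rw [Finset.sum_comm]
    refine Finset.sum_congr rfl fun j hj => ?_
    rw [show mulMap (k := k) (A := A) (c j ⊗ₜ[k] bB j) = ((c j : coradical k A) : A) * ((bB j : unitComp k A) : A) by simp [mulMap],
      show (1 : K) ⊗ₜ[k] (((c j : coradical k A) : A) * ((bB j : unitComp k A) : A)) =
        ((1 : K) ⊗ₜ[k] ((c j : coradical k A) : A)) * ((1 : K) ⊗ₜ[k] ((bB j : unitComp k A) : A)) by simp,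
      ← hl j, Finsupp.linearCombination_apply, Finsupp.sum, Finset.sum_mul,
      Finset.sum_subset (Finset.subset_biUnion_of_mem (fun j => (l j).support) hj) (fun g _ hg => by
        rw [Finsupp.notMem_support_iff.1 hg]; simp)]
    exact Finset.sum_congr rfl fun g _ => by rw [mul_smul_comm, smul_mul_assoc]
  have hzero := eq_zero_of_sum_transl (k := K) (A := K ⊗[k] A) F y N
    (fun g _ => Submodule.sum_mem _ fun j hj => Submodule.smul_mem _ _ (inc_mem_fil K N _ (hN j hj))) hsum
  have hindep : LinearIndependent K (fun j => (1 : K) ⊗ₜ[k] ((bB j : unitComp k A) : A)) := by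
    have hb := (bB.baseChange K).linearIndependent
    have hinj : Function.Injective ((unitComp k A).val.toLinearMap.baseChange K) :=
      Module.Flat.lTensor_preserves_injective_linearMap (M := K) (unitComp k A).val.toLinearMap Subtype.val_injective
    have := hb.map' _ (LinearMap.ker_eq_bot.2 hinj)
    have e : (fun j => (1 : K) ⊗ₜ[k] ((bB j : unitComp k A) : A)) =
        (unitComp k A).val.toLinearMap.baseChange K ∘ (bB.baseChange K) := by
      funext j
      simp
    rw [e]
    exact this
  have hl0 : ∀ j ∈ c.support, l j = 0 := fun j hj => Finsupp.ext fun g => by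
    by_cases hg : g ∈ F
    · exact linearIndependent_iff'.1 hindep c.support (fun j => l j g) (hzero g hg) j hj
    · refine Finsupp.notMem_support_iff.1 fun h => hg ?_
      exact Finset.mem_biUnion.2 ⟨j, hj, h⟩
  refine Finset.sum_eq_zero fun j hj => absurd ?_ (Finsupp.mem_support_iff.1 hj)
  have h1 := hl j
  rw [hl0 j hj, map_zero] at h1
  exact Subtype.ext (Algebra.TensorProduct.includeRight_injective (R := k) (A := K) (B := A)
    (algebraMap k K).injective (show (1 : K) ⊗ₜ[k] ((c j : coradical k A) : A) = (1 : K) ⊗ₜ[k] (0 : A) by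
      rw [TensorProduct.tmul_zero, h1]))

end Perfect

end Groth.Agent.CocommUnip19
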